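import Groth.Agent.MultTypeExt.Family
import Groth.Agent.GrpSchLib.MultTypeRigid

/-!
# Extensions of groups of multiplicative type with connected or commutative fibres are commutative
-/

set_option backward.isDefEq.respectTransparency.types false

universe u

open CategoryTheory CategoryTheory.Limits MonoidalCategory CartesianMonoidalCategory MonObj GrpObj AlgebraicGeometry
open scoped CategoryTheory.MonObj

namespace Groth.Agent.MultTypeExt

open TorusQI (mul_comm_of_multType)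

variable {S : Scheme.{u}} {E H K : Over S} [GrpObj E] [GrpObj H] [GrpObj K] {p : E ⟶ K} [IsMonHom p] {i : H ⟶ E}
  [IsMonHom i] [Flat p.left] [Surjective p.left] [QuasiCompact p.left]

/-- The kernel is central. -/
theorem central (hker : AlgGrp.IsKernel i p) (hH : SGA3x.IsMultTypeFT H)
    (hfib : ∀ s : S, _root_.IsConnected (K.hom.base ⁻¹' {s}) ∨
      ∀ (Z : Over S) (a b : Z ⟶ E), InFibre Z s → a * b = b * a)
    (X : Over S) (h : X ⟶ H) (e : X ⟶ E) : (h ≫ i) * e = e * (h ≫ i) := by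
  haveI := mono_of_isKernel hker
  have hc := fun {Y : Over S} (a b : Y ⟶ H) => mul_comm_of_multType hH Y a b
  obtain ⟨φ, hφ⟩ := exists_lift hker (snd H E * (fst H E ≫ i) * (snd H E)⁻¹) (by
    rw [MonObj.mul_comp _ _ p, MonObj.mul_comp _ _ p, comp_eq_one hker, _root_.mul_one, ← MonObj.mul_comp _ _ p,
      mul_inv_cancel, MonObj.one_comp p])
  have hpt : ∀ (X : Over S) (h : X ⟶ H) (e : X ⟶ E), (lift h e ≫ φ) ≫ i = e * (h ≫ i) * e⁻¹ := fun X h e => by
    rw [Category.assoc, hφ, MonObj.comp_mul, MonObj.comp_mul, GrpObj.comp_inv, lift_snd, lift_fst_assoc]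
  let χ : H ⊗ E ⟶ H := φ * (fst H E)⁻¹
  have hχ : ∀ (X : Over S) (h : X ⟶ H) (e : X ⟶ E), (lift h e ≫ χ) ≫ i = e * (h ≫ i) * e⁻¹ * (h ≫ i)⁻¹ :=
    fun X h e => by
      show (lift h e ≫ (φ * (fst H E)⁻¹)) ≫ i = _
      rw [MonObj.comp_mul, GrpObj.comp_inv, lift_fst, MonObj.mul_comp _ _ i, hpt, GrpObj.inv_comp]
  have hfam : AutFam.IsHomFamily H H χ := fun X g₁ g₂ t => by
    have h1 : lift (g₁ * g₂) t ≫ φ = (lift g₁ t ≫ φ) * (lift g₂ t ≫ φ) := by
      rw [← cancel_mono i, MonObj.mul_comp _ _ i, hpt, hpt, hpt, MonObj.mul_comp _ _ i]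
      group
    have e : ∀ g : X ⟶ H, lift g t ≫ χ = (lift g t ≫ φ) * g⁻¹ := fun g => by
      show lift g t ≫ (φ * (fst H E)⁻¹) = _
      rw [MonObj.comp_mul, GrpObj.comp_inv, lift_fst]
    rw [e, e, e, h1, _root_.mul_inv_rev, hc g₂⁻¹ g₁⁻¹, _root_.mul_assoc, ← _root_.mul_assoc (lift g₂ t ≫ φ),
      hc (lift g₂ t ≫ φ) g₁⁻¹, _root_.mul_assoc g₁⁻¹, ← _root_.mul_assoc]
  have hW : ∀ {X : Over S} (w : X ⟶ H ⊗ E), (w ≫ χ) ≫ i =
      (w ≫ snd H E) * ((w ≫ fst H E) ≫ i) * (w ≫ snd H E)⁻¹ * ((w ≫ fst H E) ≫ i)⁻¹ := fun w => by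
    rw [← hχ, ← comp_lift, lift_fst_snd, Category.comp_id]
  have hres : χ = 1 := by
    refine family_eq_one p hH hH χ hfam ?_ (fun R r₁ r₂ hr => ?_) fun s => (hfib s).imp id fun hcm Z z hZ => ?_
    · rw [← cancel_mono i, hW, MonObj.one_comp i, whiskerLeft_snd,
        toUnit_unique (snd H (𝟙_ (Over S))) (toUnit _), ← Hom.one_def, inv_one, _root_.one_mul,
        _root_.mul_one, mul_inv_cancel]
    · obtain ⟨n, hn⟩ := exists_lift hker (r₂ * r₁⁻¹) (by
        rw [MonObj.mul_comp _ _ p, GrpObj.inv_comp, hr, mul_inv_cancel])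
      have h2 : snd H R ≫ r₂ = ((snd H R ≫ n) ≫ i) * (snd H R ≫ r₁) := by
        rw [Category.assoc, hn, MonObj.comp_mul, GrpObj.comp_inv, inv_mul_cancel_right]
      obtain ⟨y, hy⟩ : ∃ y : H ⊗ R ⟶ H, y ≫ i = (snd H R ≫ r₁) * (fst H R ≫ i) * (snd H R ≫ r₁)⁻¹ :=
        ⟨_, hpt _ (fst H R) (snd H R ≫ r₁)⟩
      rw [← cancel_mono i, hW, hW]
      simp only [whiskerLeft_fst, whiskerLeft_snd]
      rw [h2]
      congr 1
      rw [_root_.mul_inv_rev, ← _root_.mul_assoc, _root_.mul_assoc ((snd H R ≫ n) ≫ i), _root_.mul_assoc ((snd H R ≫ n) ≫ i), ← hy,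
        ← MonObj.mul_comp _ _ i, hc, MonObj.mul_comp _ _ i, mul_inv_cancel_right]
    · rw [← cancel_mono i, hW, MonObj.one_comp i, whiskerLeft_snd, whiskerLeft_fst,
        hcm _ (snd H Z ≫ z) (fst H Z ≫ i) (hZ.of_hom (snd H Z)), mul_inv_cancel_right, mul_inv_cancel]
  have h := hχ X h e
  rw [hres, MonObj.comp_one, MonObj.one_comp i] at h
  exact ((mul_inv_eq_iff_eq_mul.mp ((mul_inv_eq_one).mp h.symm))).symm

/-- An equation between maps may be checked after lifting a point of the quotient. -/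
theorem ext_lift {X Y : Over S} (g : X ⟶ K) (f₁ f₂ : X ⟶ Y)
    (h : ∀ (X' : Over S) (π : X' ⟶ X) (a : X' ⟶ E), a ≫ p = π ≫ g → π ≫ f₁ = π ≫ f₂) : f₁ = f₂ := by
  let X' : Over S := Over.mk (pullback.fst g.left p.left ≫ X.hom)
  let π : X' ⟶ X := Over.homMk (pullback.fst g.left p.left) rfl
  let a : X' ⟶ E := Over.homMk (pullback.snd g.left p.left) (by
    show pullback.snd g.left p.left ≫ E.hom = pullback.fst g.left p.left ≫ X.hom
    rw [← Over.w g, ← Over.w p, ← Category.assoc, ← pullback.condition, Category.assoc])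
  haveI : Flat π.left := MorphismProperty.pullback_fst (P := @Flat) _ _ ‹_›
  haveI : Surjective π.left := MorphismProperty.pullback_fst (P := @Surjective) _ _ ‹_›
  haveI : QuasiCompact π.left := MorphismProperty.pullback_fst (P := @QuasiCompact) _ _ ‹_›
  haveI : Epi π.left := Flat.epi_of_flat_of_surjective π.left
  haveI : Epi π := Over.epi_of_epi_left π
  exact (cancel_epi π).1 (h X' π a (Over.OverMorphism.ext pullback.condition.symm))

/-- An extension of groups of multiplicative type is commutative if its fibres are commutative or have connected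
quotient. -/
theorem mul_comm_of_extension (hker : AlgGrp.IsKernel i p) (hH : SGA3x.IsMultTypeFT H) (hK : SGA3x.IsMultTypeFT K)
    (hfib : ∀ s : S, _root_.IsConnected (K.hom.base ⁻¹' {s}) ∨
      ∀ (Z : Over S) (a b : Z ⟶ E), InFibre Z s → a * b = b * a)
    (X : Over S) (a b : X ⟶ E) : a * b = b * a := by
  haveI := mono_of_isKernel hker
  haveI := (isAffineHom_and_lfp hker hH).2
  have hcen := central hker hH hfib
  obtain ⟨c, hc⟩ := exists_lift hker (fst E E * snd E E * (fst E E)⁻¹ * (snd E E)⁻¹) (by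
    rw [MonObj.mul_comp _ _ p, MonObj.mul_comp _ _ p, MonObj.mul_comp _ _ p, GrpObj.inv_comp, GrpObj.inv_comp,
      mul_comm_of_multType hK _ (fst E E ≫ p) (snd E E ≫ p), mul_inv_cancel_right, mul_inv_cancel])
  have hpt : ∀ (X : Over S) (a b : X ⟶ E), (lift a b ≫ c) ≫ i = a * b * a⁻¹ * b⁻¹ := fun X a b => by
    rw [Category.assoc, hc, MonObj.comp_mul, MonObj.comp_mul, MonObj.comp_mul, GrpObj.comp_inv, GrpObj.comp_inv,
      lift_fst, lift_snd]
  have hinvl : ∀ (Y : Over S) (n : Y ⟶ H) (a b : Y ⟶ E), lift ((n ≫ i) * a) b ≫ c = lift a b ≫ c := fun Y n a b => by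
    rw [← cancel_mono i, hpt, hpt]
    have h1 := hcen Y n b
    calc (n ≫ i) * a * b * ((n ≫ i) * a)⁻¹ * b⁻¹ = (n ≫ i) * (a * b * a⁻¹) * (n ≫ i)⁻¹ * b⁻¹ := by group
      _ = _ := by rw [hcen Y n (a * b * a⁻¹), mul_inv_cancel_right]
  have hinvr : ∀ (Y : Over S) (n : Y ⟶ H) (a b : Y ⟶ E), lift a ((n ≫ i) * b) ≫ c = lift a b ≫ c := fun Y n a b => by
    rw [← cancel_mono i, hpt, hpt]
    calc a * ((n ≫ i) * b) * a⁻¹ * ((n ≫ i) * b)⁻¹ = a * (n ≫ i) * (b * a⁻¹ * b⁻¹) * (n ≫ i)⁻¹ := by group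
      _ = _ := by rw [_root_.mul_assoc a (n ≫ i), hcen Y n (b * a⁻¹ * b⁻¹), ← _root_.mul_assoc, mul_inv_cancel_right,
        ← _root_.mul_assoc, ← _root_.mul_assoc]
  have hmull : ∀ (Y : Over S) (a₁ a₂ b : Y ⟶ E), lift (a₁ * a₂) b ≫ c = (lift a₁ b ≫ c) * (lift a₂ b ≫ c) :=
    fun Y a₁ a₂ b => by
      rw [← cancel_mono i, MonObj.mul_comp _ _ i, hpt Y a₁ b, hpt Y (a₁ * a₂) b]
      calc a₁ * a₂ * b * (a₁ * a₂)⁻¹ * b⁻¹ = a₁ * (a₂ * b * a₂⁻¹ * b⁻¹) * (b * a₁⁻¹ * b⁻¹) := by group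
        _ = (a₂ * b * a₂⁻¹ * b⁻¹) * a₁ * (b * a₁⁻¹ * b⁻¹) := by rw [← hpt Y a₂ b, hcen]
        _ = (a₂ * b * a₂⁻¹ * b⁻¹) * (a₁ * b * a₁⁻¹ * b⁻¹) := by group
        _ = _ := by rw [← hpt Y a₂ b, hcen Y _ (a₁ * b * a₁⁻¹ * b⁻¹)]
  obtain ⟨e, he⟩ := GrpSchLib.MultTypeRigid.exists_desc i p hker c fun Y h n z => hinvl Y n h z
  have hfam : AutFam.IsHomFamily K H e := fun X g₁ g₂ t => by
    refine ext_lift (p := p) g₁ _ _ fun X₁ π a₁ h₁ => ext_lift (p := p) (π ≫ g₂) _ _ fun X₂ π' a₂ h₂ => ?_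
    have e1 : (π' ≫ a₁) ≫ p = π' ≫ π ≫ g₁ := by rw [Category.assoc, h₁]
    have e12 : ((π' ≫ a₁) * a₂) ≫ p = (π' ≫ π ≫ g₁) * (π' ≫ π ≫ g₂) := by
      rw [MonObj.mul_comp _ _ p, h₂, e1]
    simp only [comp_lift_assoc, MonObj.comp_mul]
    rw [← e12, ← e1, ← h₂, he, he, he, hmull]
  have hone' : ∀ (Y : Over S) (a : Y ⟶ E), lift a 1 ≫ c = 1 := fun Y a => by
    rw [← cancel_mono i, hpt, MonObj.one_comp i, _root_.mul_one, inv_one, _root_.mul_one, mul_inv_cancel]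
  have he1 : e = 1 := by
    refine family_eq_one p hK hH e hfam ?_ (fun R r₁ r₂ hr => ?_) fun s => (hfib s).imp id fun hcm Z z hZ => ?_
    · refine ext_lift (p := p) (fst K (𝟙_ (Over S))) _ _ fun X' π a h => ?_
      rw [MonObj.comp_one, show π = lift (a ≫ p) (toUnit X') from
        CartesianMonoidalCategory.hom_ext _ _ (by rw [lift_fst, h]) (toUnit_unique _ _),
        lift_whiskerLeft_assoc, ← Hom.one_def, he, hone']
    · obtain ⟨n, hn⟩ := exists_lift hker (r₂ * r₁⁻¹) (by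
        rw [MonObj.mul_comp _ _ p, GrpObj.inv_comp, hr, mul_inv_cancel])
      have h2 : r₂ = (n ≫ i) * r₁ := by rw [hn, inv_mul_cancel_right]
      refine ext_lift (p := p) (fst K R) _ _ fun X' π a h => ?_
      rw [show π = lift (a ≫ p) (π ≫ snd K R) from
        CartesianMonoidalCategory.hom_ext _ _ (by rw [lift_fst, h]) (by rw [lift_snd]),
        lift_whiskerLeft_assoc, lift_whiskerLeft_assoc, he, he, h2, MonObj.comp_mul, ← Category.assoc _ n, hinvr]
    · refine ext_lift (p := p) (fst K Z) _ _ fun X' π a h => ?_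
      rw [MonObj.comp_one, show π = lift (a ≫ p) (π ≫ snd K Z) from
        CartesianMonoidalCategory.hom_ext _ _ (by rw [lift_fst, h]) (by rw [lift_snd]),
        lift_whiskerLeft_assoc, he, ← cancel_mono i, hpt, MonObj.one_comp i,
        hcm _ a _ (hZ.of_hom (π ≫ snd K Z)), mul_inv_cancel_right, mul_inv_cancel]
  have h := hpt X a b
  rw [← he X a b, he1, MonObj.comp_one, MonObj.one_comp i] at h
  exact mul_inv_eq_iff_eq_mul.mp (mul_inv_eq_one.mp h.symm)

end Groth.Agent.MultTypeExt
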