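import Groth.Agent.MultTypeExt.Torsion
import Groth.Agent.MultTypeExt.Comm
import Groth.Agent.MultTypeQI.Recognize
import Groth.Agent.GrpSchLib.MultTypeExtension
import Groth.Agent.GrpSchLib.HomSplitLocal
import Groth.Agent.S5264

/-!
# Extensions of groups of multiplicative type are of multiplicative type
-/

set_option backward.isDefEq.respectTransparency false
set_option backward.isDefEq.respectTransparency.types false

universe u

open CategoryTheory CategoryTheory.Limits MonoidalCategory CartesianMonoidalCategory MonObj GrpObj AlgebraicGeometry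
open TensorProduct
open scoped CategoryTheory.MonObj

namespace Groth.Agent.MultTypeExt

open GrpSchLib.AffineHopf GrpSchLib MultTypeLib
open Groth.Agent.DSPtsLib (theta theta_mul theta_bijective)

theorem isKernel_bc {S S' : Scheme.{u}} (r : S' ⟶ S) {A B N : Over S} [GrpObj B] {i : N ⟶ A} {φ : A ⟶ B}
    (hN : AlgGrp.IsKernel i φ) :
    AlgGrp.IsKernel ((Over.pullback r).map i : Red.bc r N ⟶ Red.bc r A)
      ((Over.pullback r).map φ : Red.bc r A ⟶ Red.bc r B) := by
  haveI : PreservesLimitsOfSize.{0, 0} (Over.pullback r) := (Over.mapPullbackAdj r).rightAdjoint_preservesLimits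
  have h := hN.map (Over.pullback r)
  refine h.of_iso (Iso.refl _) (Iso.refl _) (Functor.Monoidal.εIso (Over.pullback r)).symm (Iso.refl _) ?_ ?_ ?_ ?_
  · simp
  · exact toUnit_unique _ _
  · simp
  · show (Over.pullback r).map η[B] ≫ 𝟙 _ = _ ≫ η[Red.bc r B]
    rw [Category.comp_id, Functor.obj.η_def]
    simp

theorem comm_bc {S S' : Scheme.{u}} (r : S' ⟶ S) {E : Over S} [GrpObj E]
    (h : ∀ (X : Over S) (a b : X ⟶ E), a * b = b * a) (Y : Over S') (a b : Y ⟶ Red.bc r E) : a * b = b * a :=
  (theta_bijective r).injective (by rw [theta_mul, theta_mul, h])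

theorem isCocomm_of_comm {R : Type u} [CommRing R] {A : Type u} [CommRing A] [HopfAlgebra R A]
    (h : ∀ (T : Over (Spec (CommRingCat.of R))) (x y : T ⟶ sp R A), x * y = y * x) : Coalgebra.IsCocomm R A := by
  let l : A →ₐ[R] A ⊗[R] A := Algebra.TensorProduct.includeLeft
  let r : A →ₐ[R] A ⊗[R] A := Algebra.TensorProduct.includeRight
  have e := h _ (spMap l) (spMap r)
  rw [spMap_mul, spMap_mul] at e
  have e' := spMap_injective e
  refine ⟨LinearMap.ext fun a => ?_⟩
  have h1 : ∀ z : A ⊗[R] A, Algebra.TensorProduct.lmul' R (Algebra.TensorProduct.map l r z) = z := fun z => by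
    induction z using TensorProduct.induction_on with
    | zero => simp
    | tmul a b => simp [l, r]
    | add a b ha hb => rw [map_add, map_add, ha, hb]
  have h2 : ∀ z : A ⊗[R] A, Algebra.TensorProduct.lmul' R (Algebra.TensorProduct.map r l z) = TensorProduct.comm R A A z :=
    fun z => by
    induction z using TensorProduct.induction_on with
    | zero => simp
    | tmul a b => simp [l, r]
    | add a b ha hb => rw [map_add, map_add, ha, hb, map_add]
  have := DFunLike.congr_fun e' a
  rw [AlgHom.convMul_def, AlgHom.convMul_def] at this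
  simp only [WithConv.ofConv_toConv, AlgHom.comp_apply, Bialgebra.comulAlgHom_apply] at this
  rw [h1, h2] at this
  exact this.symm

theorem isMultType_of_isMultTypeFT {R : Type u} [CommRing R] {T : Type u} [CommRing T] [HopfAlgebra R T]
    {X : Over (Spec (CommRingCat.of R))} [GrpObj X] (hX : SGA3x.IsMultTypeFT X)
    (e : Grp.mk (sp R T) ≅ Grp.mk X) : SGA3b.IsMultType R T := by
  obtain ⟨A, _, _, hA, ⟨eA⟩⟩ := SchemeBridge.exists_hopf_multType X hX
  obtain ⟨d⟩ := SchemeBridge.nonempty_bialgEquiv (e ≪≫ eA.symm)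
  exact isMultType_congr d hA

/-- A commutative extension over an affine base, in Hopf algebra form. -/
theorem isMultType_of_extension_affine {R : Type u} [CommRing R] (E H K : Over (Spec (CommRingCat.of R))) [GrpObj E]
    [GrpObj H] [GrpObj K] (p : E ⟶ K) [IsMonHom p] [Surjective p.left] [Flat p.left] [QuasiCompact p.left]
    (i : H ⟶ E) [IsMonHom i] (hker : AlgGrp.IsKernel i p) (hH : SGA3x.IsMultTypeFT H) (hK : SGA3x.IsMultTypeFT K)
    (hcomm : ∀ (X : Over (Spec (CommRingCat.of R))) (a b : X ⟶ E), a * b = b * a) :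
    ∃ (C : Type u) (_ : CommRing C) (_ : HopfAlgebra R C), Algebra.FiniteType R C ∧ SGA3b.IsMultType R C ∧
      Nonempty (Grp.mk (sp R C) ≅ Grp.mk E) := by
  obtain ⟨_, _, _⟩ := affine_flat_lfp hker hH hK
  haveI : IsAffine E.left := isAffine_of_isAffineHom E.hom
  obtain ⟨C, _, _, ⟨eC⟩⟩ := exists_hopf E
  let a : sp R C ≅ E := (Grp.forget _).mapIso eC
  haveI : IsMonHom a.hom := eC.hom.hom.isMonHom_hom
  haveI : IsMonHom a.inv := eC.inv.hom.isMonHom_hom
  haveI : IsIso a.hom.left := ((Over.forget _).mapIso a).isIso_hom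
  haveI : IsIso a.inv.left := ((Over.forget _).mapIso a).isIso_inv
  have hft := finiteType_of_iso a
  haveI : Module.Flat R C := RingHom.flat_algebraMap_iff.mp ((HasRingHomProperty.Spec_iff (P := @Flat)
    (φ := CommRingCat.ofHom (algebraMap R C))).mp (by
      show Flat (sp R C).hom
      rw [← Over.w a.hom]; infer_instance))
  have hfp : Algebra.FinitePresentation R C := RingHom.finitePresentation_algebraMap.mp
    ((HasRingHomProperty.Spec_iff (P := @LocallyOfFinitePresentation)
      (φ := CommRingCat.ofHom (algebraMap R C))).mp (by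
      show LocallyOfFinitePresentation (sp R C).hom
      rw [← Over.w a.hom]; infer_instance))
  haveI : Coalgebra.IsCocomm R C := isCocomm_of_comm fun T x y => by
    rw [← cancel_mono a.hom, MonObj.mul_comp, MonObj.mul_comp, hcomm]
  refine ⟨C, inferInstance, inferInstance, hft, S5264.result R C hfp (fun q hq => ?_) (fun n hn => ?_), ⟨eC⟩⟩
  · let k := q.ResidueField
    let σ : Spec (CommRingCat.of k) ⟶ Spec (CommRingCat.of R) := Spec.map (CommRingCat.ofHom (algebraMap R k))
    let ik : Red.bc σ H ⟶ Red.bc σ E := (Over.pullback σ).map i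
    let pk : Red.bc σ E ⟶ Red.bc σ K := (Over.pullback σ).map p
    haveI : IsMonHom ik := inferInstanceAs (IsMonHom ((Over.pullback σ).map i))
    haveI : IsMonHom pk := inferInstanceAs (IsMonHom ((Over.pullback σ).map p))
    have hsqp := HomSplitLocal.isPullback_map p σ
    haveI : Flat pk.left := MorphismProperty.of_isPullback (P := @Flat) hsqp ‹_›
    haveI : Surjective pk.left := MorphismProperty.of_isPullback (P := @Surjective) hsqp ‹_›
    have hkk := isKernel_bc σ hker
    have hHk : SGA3x.IsMultTypeFT (Red.bc σ H) := MultTypeBC.isMultTypeFT_bc σ hH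
    have hKk : SGA3x.IsMultTypeFT (Red.bc σ K) := MultTypeBC.isMultTypeFT_bc σ hK
    haveI := MultTypeLfp.lfp hHk
    haveI := MultTypeLfp.lfp hKk
    haveI : IsAffineHom (Red.bc σ E).hom := MorphismProperty.pullback_snd (P := @IsAffineHom) _ _ ‹_›
    haveI : IsAffine (Red.bc σ E).left := isAffine_of_isAffineHom (Red.bc σ E).hom
    haveI : LocallyOfFiniteType (Red.bc σ E).hom :=
      MorphismProperty.pullback_snd (P := @LocallyOfFiniteType) _ _ inferInstance
    haveI : IsClosedImmersion ik.left := by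
      haveI : IsClosedImmersion i.left := by
        haveI : IsAffineHom K.hom := (TransLib.multTypeFT_essFree hK).1
        haveI : IsClosedImmersion ((η[K] : 𝟙_ (Over _) ⟶ K).left ≫ K.hom) := by
          rw [Over.w (η[K] : 𝟙_ (Over _) ⟶ K)]
          exact inferInstanceAs (IsClosedImmersion (𝟙 _))
        haveI : IsClosedImmersion (η[K] : 𝟙_ (Over _) ⟶ K).left := IsClosedImmersion.of_comp _ K.hom
        exact MorphismProperty.of_isPullback (P := @IsClosedImmersion) (hker.map (Over.forget _)).flip ‹_›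
      exact MorphismProperty.of_isPullback (P := @IsClosedImmersion) (HomSplitLocal.isPullback_map i σ) ‹_›
    have hE := MultTypeExtension.isMultTypeFT_of_extension (Red.bc σ E) (Red.bc σ H) (Red.bc σ K) (comm_bc σ hcomm)
      ik pk hkk hHk hKk
    obtain ⟨e₁⟩ := nonempty_bc_sp (R := R) k C
    obtain ⟨e₂⟩ := MultTypeBC.bc_iso σ eC
    exact isMultType_of_isMultTypeFT hE (e₁.symm ≪≫ e₂)
  · haveI : IsAffineHom K.hom := (TransLib.multTypeFT_essFree hK).1
    haveI := isFinite_torsion hker hcomm n (isFinite_npow H hH n hn) (isFinite_npow K hK n hn)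
    let J := SGA3b.torsionIdeal R C n
    let j : sp R (C ⧸ J) ⟶ E := spMap (Ideal.Quotient.mkₐ R J) ≫ a.hom
    have h1 : spMap ((Algebra.ofId R (C ⧸ J)).comp (Bialgebra.counitAlgHom R C)) = (1 : sp R (C ⧸ J) ⟶ sp R C) := by
      rw [spMap_eq_mapMulEquiv]
      exact map_one Spec.mapMulEquiv
    have hj : j ^ n = 1 := by
      have h2 : (Ideal.Quotient.mkₐ R J).comp (SGA3b.powConv R C n) =
          (Algebra.ofId R (C ⧸ J)).comp (Bialgebra.counitAlgHom R C) := AlgHom.ext fun c => by
        have hc : SGA3b.powConv R C n (c - algebraMap R C (Bialgebra.counitAlgHom R C c)) ∈ J :=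
          Ideal.mem_map_of_mem _ (by rw [RingHom.mem_ker, map_sub, AlgHom.commutes]; exact sub_self _)
        rw [map_sub, AlgHom.commutes] at hc
        exact (Ideal.Quotient.mk_eq_mk_iff_sub_mem _ _).mpr hc
      have h3 : spMap (Ideal.Quotient.mkₐ R J) ^ n = (1 : sp R (C ⧸ J) ⟶ sp R C) := by
        rw [← h1, ← h2, ← spMap_comp, spMap_powConv, TorusQI.comp_npow, Category.comp_id]
      show (spMap (Ideal.Quotient.mkₐ R J) ≫ a.hom) ^ n = 1
      rw [← TorusQI.npow_comp, h3, MonObj.one_comp a.hom]
    let l : sp R (C ⧸ J) ⟶ pullback ((𝟙 E) ^ n) η[E] := pullback.lift j (toUnit _) (by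
      rw [TorusQI.comp_npow, Category.comp_id, hj, Hom.one_def])
    haveI : IsClosedImmersion (spMap (Ideal.Quotient.mkₐ R J)).left :=
      IsClosedImmersion.spec_of_surjective _ Ideal.Quotient.mk_surjective
    haveI : IsSeparated (pullback.fst ((𝟙 E) ^ n) η[E]).left := by
      haveI : IsSeparated ((pullback.fst ((𝟙 E) ^ n) η[E]).left ≫ E.hom) := by
        rw [Over.w]; infer_instance
      exact IsSeparated.of_comp _ E.hom
    haveI : IsClosedImmersion l.left := by
      haveI : IsClosedImmersion (l.left ≫ (pullback.fst ((𝟙 E) ^ n) η[E]).left) := by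
        rw [← Over.comp_left, pullback.lift_fst]
        show IsClosedImmersion ((spMap (Ideal.Quotient.mkₐ R J)).left ≫ a.hom.left)
        infer_instance
      exact IsClosedImmersion.of_comp _ (pullback.fst ((𝟙 E) ^ n) η[E]).left
    have hfin : IsFinite (sp R (C ⧸ J)).hom := by rw [← Over.w l]; infer_instance
    exact RingHom.finite_algebraMap.mp ((IsFinite.SpecMap_iff _).mp hfin)

/-- A commutative extension of groups of multiplicative type is of multiplicative type. -/
theorem isMultTypeFT_of_comm_extension {S : Scheme.{u}} (E H K : Over S) [GrpObj E] [GrpObj H] [GrpObj K]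
    (p : E ⟶ K) [IsMonHom p] [Surjective p.left] [Flat p.left] [QuasiCompact p.left]
    (i : H ⟶ E) [IsMonHom i] (hker : AlgGrp.IsKernel i p) (hH : SGA3x.IsMultTypeFT H) (hK : SGA3x.IsMultTypeFT K)
    (hcomm : ∀ (X : Over S) (a b : X ⟶ E), a * b = b * a) : SGA3x.IsMultTypeFT E := by
  refine MultTypeQI.isMultTypeFT_of_etale_locally fun s => ?_
  obtain ⟨V, hV, hsV, -⟩ := exists_isAffineOpen_mem_and_subset (show s ∈ (⊤ : S.Opens) from trivial)
  let R : Type u := Γ(S, V)
  let j : Spec (CommRingCat.of R) ⟶ S := hV.fromSpec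
  let ij : Red.bc j H ⟶ Red.bc j E := (Over.pullback j).map i
  let pj : Red.bc j E ⟶ Red.bc j K := (Over.pullback j).map p
  haveI : IsMonHom ij := inferInstanceAs (IsMonHom ((Over.pullback j).map i))
  haveI : IsMonHom pj := inferInstanceAs (IsMonHom ((Over.pullback j).map p))
  have hsqp := HomSplitLocal.isPullback_map p j
  haveI : Flat pj.left := MorphismProperty.of_isPullback (P := @Flat) hsqp ‹_›
  haveI : Surjective pj.left := MorphismProperty.of_isPullback (P := @Surjective) hsqp ‹_›
  haveI : QuasiCompact pj.left := MorphismProperty.of_isPullback (P := @QuasiCompact) hsqp ‹_›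
  obtain ⟨C, _, _, hft, hC, ⟨eC⟩⟩ := isMultType_of_extension_affine (Red.bc j E) (Red.bc j H) (Red.bc j K) pj ij
    (isKernel_bc j hker) (MultTypeBC.isMultTypeFT_bc j hH) (MultTypeBC.isMultTypeFT_bc j hK) (comm_bc j hcomm)
  obtain ⟨q, hq⟩ : s ∈ Set.range j := by
    show s ∈ Set.range hV.fromSpec
    rw [hV.range_fromSpec]; exact hsV
  obtain ⟨S', f, hf, ⟨y, hy⟩, M, iM, hM, ⟨e⟩⟩ := MultTypeQI.etale_nhd_of_hopf hft hC (Red.bc j E) eC q
  obtain ⟨e₁⟩ := MultTypeBC.bc_bc f j E
  exact ⟨S', f ≫ j, inferInstance, ⟨y, by rw [Scheme.Hom.comp_apply, hy, hq]⟩, M, iM, hM, ⟨e₁.symm ≪≫ e⟩⟩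

end Groth.Agent.MultTypeExt
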