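import Groth.Agent.MultTypeLib.Torsion
import Groth.Agent.MultTypeLib.TorsionDense
import Mathlib.RingTheory.FiniteType

/-!
# Power maps of groups of multiplicative type are finite
-/

universe u

open WithConv TensorProduct Coalgebra Bialgebra

noncomputable section

namespace Groth.Agent.MultTypeExt

open MultTypeLib

variable {R : Type u} [CommRing R] {A : Type u} [CommRing A] [HopfAlgebra R A]

/-- The `n`-th power map of a group of multiplicative type and of finite type is finite. -/
theorem finite_powConv (hft : Algebra.FiniteType R A) (hA : SGA3b.IsMultType R A) (n : ℕ) (hn : 0 < n) :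
    (SGA3b.powConv R A n).toRingHom.Finite := by
  classical
  let φ : A →ₐ[R] A := SGA3b.powConv R A n
  let span' : Finset A → Submodule R A := fun G => Submodule.span R {x | ∃ b : A, ∃ g ∈ G, x = φ b * g}
  obtain ⟨c⟩ := exists_cover hA
  have hmono : ∀ {G G' : Finset A}, G ⊆ G' → span' G ≤ span' G' := fun h =>
    Submodule.span_mono fun x ⟨b, g, hg, hx⟩ => ⟨b, g, h hg, hx⟩
  have hgen : ∀ i, ∃ G : Finset A, ∀ z : (c.split i).S ⊗[R] A,
      z ∈ LinearMap.range (LinearMap.lTensor (c.split i).S (span' G).subtype) := by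
    intro i
    let P := c.split i
    rcases subsingleton_or_nontrivial P.S with hS | hS
    · refine ⟨∅, fun z => ⟨0, ?_⟩⟩
      have : Subsingleton (P.S ⊗[R] A) := Module.subsingleton P.S _
      exact Subsingleton.elim _ _
    have : Algebra.FiniteType P.S (MonoidAlgebra P.S P.M) := Algebra.FiniteType.equiv inferInstance P.equiv
    have : Monoid.FG P.M := MonoidAlgebra.finiteType_iff_fg.mp this
    have : Group.FG P.M := Group.fg_iff_monoid_fg.mpr this
    have : Finite (P.M ⧸ (powMonoidHom n : P.M →* P.M).range) := TorsionDense.finite_quot hn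
    let ω : P.M → P.S ⊗[R] A := fun m => P.equiv.symm (MonoidAlgebra.single m 1)
    obtain ⟨L, hL, hs⟩ := TensorProduct.exists_finite_submodule_right_of_setFinite
      (Set.range fun q : P.M ⧸ (powMonoidHom n : P.M →* P.M).range => ω q.out) (Set.finite_range _)
    obtain ⟨G, hG⟩ := Module.Finite.iff_fg.mp hL
    have hle : L ≤ span' G := by
      rw [← hG]
      exact Submodule.span_le.mpr fun g hg => Submodule.subset_span ⟨1, g, hg, by rw [map_one, one_mul]⟩
    let T : Submodule R (P.S ⊗[R] A) := LinearMap.range (LinearMap.lTensor P.S (span' G).subtype)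
    let Φ : P.S ⊗[R] A →ₐ[P.S] P.S ⊗[R] A := Algebra.TensorProduct.map (AlgHom.id P.S P.S) φ
    have hstab : ∀ (b : A), ∀ x ∈ span' G, φ b * x ∈ span' G := fun b x hx => by
      induction hx using Submodule.span_induction with
      | mem x hx =>
        obtain ⟨b', g, hg, rfl⟩ := hx
        exact Submodule.subset_span ⟨b * b', g, hg, by rw [map_mul, mul_assoc]⟩
      | zero => rw [mul_zero]; exact zero_mem _
      | add x y _ _ hx hy => rw [mul_add]; exact add_mem hx hy
      | smul r x _ hx => rw [mul_smul_comm]; exact Submodule.smul_mem _ r hx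
    have hT : ∀ w, ∀ t ∈ T, Φ w * t ∈ T := by
      rintro w _ ⟨y, rfl⟩
      induction w using TensorProduct.induction_on with
      | zero => rw [map_zero, zero_mul]; exact zero_mem _
      | add w₁ w₂ h₁ h₂ => rw [map_add, add_mul]; exact add_mem h₁ h₂
      | tmul s b =>
        induction y using TensorProduct.induction_on with
        | zero => rw [map_zero, mul_zero]; exact zero_mem _
        | add y₁ y₂ h₁ h₂ => rw [map_add, mul_add]; exact add_mem h₁ h₂
        | tmul r x =>
          exact ⟨(s * r) ⊗ₜ[R] ⟨_, hstab b x x.2⟩, by simp [Φ, Algebra.TensorProduct.tmul_mul_tmul]⟩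
    have hTL : ∀ z ∈ LinearMap.range (LinearMap.lTensor P.S L.subtype), z ∈ T := by
      rintro _ ⟨y, rfl⟩
      refine ⟨LinearMap.lTensor _ (Submodule.inclusion hle) y, ?_⟩
      rw [← LinearMap.comp_apply, ← LinearMap.lTensor_comp, Submodule.subtype_comp_inclusion]
    have hkey : ∀ z, P.equiv (Φ z) = MonoidAlgebra.mapDomain (· ^ n) (P.equiv z) := by
      intro z
      induction z using TensorProduct.induction_on with
      | zero => simp
      | add z₁ z₂ h₁ h₂ => simp only [map_add, MonoidAlgebra.mapDomain_add, h₁, h₂]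
      | tmul s a =>
        have e : (s ⊗ₜ[R] a : P.S ⊗[R] A) = s • ((1 : P.S) ⊗ₜ[R] a) := by
          rw [TensorProduct.smul_tmul', smul_eq_mul, mul_one]
        rw [e, map_smul Φ, show Φ ((1 : P.S) ⊗ₜ[R] a) = (1 : P.S) ⊗ₜ[R] φ a from rfl, map_smul, map_smul,
          P.equiv_tmul, P.equiv_tmul, P.hom_powConv, MonoidAlgebra.mapDomain_smul]
    refine ⟨G, fun z => ?_⟩
    obtain ⟨y, rfl⟩ := P.equiv.symm.surjective z
    induction y using MonoidAlgebra.induction_linear with
    | zero => rw [map_zero]; exact zero_mem _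
    | add y w hy hw => rw [map_add]; exact add_mem hy hw
    | single m r =>
      let q : P.M ⧸ (powMonoidHom n : P.M →* P.M).range := QuotientGroup.mk m
      obtain ⟨x, hx⟩ := QuotientGroup.eq.mp (QuotientGroup.out_eq' q)
      have hx' : x ^ n = q.out⁻¹ * m := hx
      have e : MonoidAlgebra.single m r =
          (r • MonoidAlgebra.single (x ^ n) (1 : P.S)) * MonoidAlgebra.single q.out 1 := by
        rw [MonoidAlgebra.smul_single, smul_eq_mul, mul_one, MonoidAlgebra.single_mul_single, mul_one, hx',
          mul_comm, mul_inv_cancel_left]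
      have e2 : P.equiv.symm (r • MonoidAlgebra.single (x ^ n) (1 : P.S)) = Φ (r • ω x) := by
        apply P.equiv.injective
        rw [AlgEquiv.apply_symm_apply, hkey, map_smul, MonoidAlgebra.mapDomain_smul, AlgEquiv.apply_symm_apply,
          MonoidAlgebra.mapDomain_single]
      rw [e, map_mul, e2]
      exact hT _ _ (hTL _ (hs ⟨q, rfl⟩))
  choose G hG using hgen
  have := Fintype.ofFinite c.ι
  let Gu : Finset A := Finset.univ.biUnion G
  have htop : ∀ a, a ∈ span' Gu := fun a => c.mem_of_forall _ a fun i => by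
    obtain ⟨y, hy⟩ := hG i (1 ⊗ₜ[R] a)
    refine ⟨LinearMap.lTensor _ (Submodule.inclusion (hmono (Finset.subset_biUnion_of_mem G (Finset.mem_univ i)))) y, ?_⟩
    rw [← LinearMap.comp_apply, ← LinearMap.lTensor_comp, Submodule.subtype_comp_inclusion]
    exact hy
  let md : Module A A := φ.toRingHom.toAlgebra.toModule
  show @Module.Finite A A _ _ md
  refine ⟨⟨Gu, eq_top_iff.mpr fun a ha => ?_⟩⟩
  clear ha
  let N : @Submodule A A _ _ md := @Submodule.span A A _ _ md (Gu : Set A)
  show a ∈ N
  induction htop a using Submodule.span_induction with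
  | mem x hx =>
    obtain ⟨b, g, hg, rfl⟩ := hx
    exact N.smul_mem' b (@Submodule.subset_span A A _ _ md _ g hg)
  | zero => exact N.zero_mem'
  | add x y _ _ hx hy => exact N.add_mem' hx hy
  | smul r x _ hx =>
    rw [Algebra.smul_def, ← φ.commutes r]
    exact N.smul_mem' (algebraMap R A r) hx

end Groth.Agent.MultTypeExt
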