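import Groth.Agent.MultTypeExt.Basic
import Groth.Agent.MultTypeExt.PowFinite
import Groth.Agent.MultTypeLib.SchemeBridge
import Groth.Agent.GrpSchLib.AffineHopf
import Groth.Agent.TorusQI.TorsionChar

/-!
# Torsion of an extension of groups of multiplicative type
-/

set_option backward.isDefEq.respectTransparency false
set_option backward.isDefEq.respectTransparency.types false

universe u

open CategoryTheory CategoryTheory.Limits MonoidalCategory CartesianMonoidalCategory MonObj GrpObj AlgebraicGeometry
open scoped CategoryTheory.MonObj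

namespace Groth.Agent.MultTypeExt

open GrpSchLib.AffineHopf
open TorusQI (comp_npow npow_comp)

theorem spMap_powConv {R : Type u} [CommRing R] (A : Type u) [CommRing A] [HopfAlgebra R A] (n : ℕ) :
    spMap (SGA3b.powConv R A n) = (𝟙 (sp R A)) ^ n := by
  rw [spMap_eq_mapMulEquiv, show WithConv.toConv (SGA3b.powConv R A n) = WithConv.toConv (AlgHom.id R A) ^ n from rfl,
    map_pow, ← spMap_eq_mapMulEquiv, spMap_id]

theorem finiteType_of_iso {R : Type u} [CommRing R] {B : Type u} [CommRing B] [HopfAlgebra R B]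
    {X : Over (Spec (CommRingCat.of R))} [LocallyOfFiniteType X.hom] (e : sp R B ≅ X) : Algebra.FiniteType R B := by
  haveI : IsIso e.hom.left := ((Over.forget _).mapIso e).isIso_hom
  exact RingHom.finiteType_algebraMap.mp ((HasRingHomProperty.Spec_iff (P := @LocallyOfFiniteType)).mp (by
    show LocallyOfFiniteType (sp R B).hom
    rw [← Over.w e.hom]; infer_instance))

/-- The power maps of a group of multiplicative type and of finite type over an affine base are finite. -/
theorem isFinite_npow {R : Type u} [CommRing R] (H : Over (Spec (CommRingCat.of R))) [GrpObj H]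
    (hH : SGA3x.IsMultTypeFT H) (n : ℕ) (hn : 0 < n) : IsFinite (((𝟙 H) ^ n)).left := by
  obtain ⟨A, _, _, hA, ⟨eA⟩⟩ := MultTypeLib.SchemeBridge.exists_hopf_multType H hH
  let a : sp R A ≅ H := (Grp.forget _).mapIso eA
  haveI : IsMonHom a.hom := eA.hom.hom.isMonHom_hom
  haveI := GrpSchLib.MultTypeLfp.lfp hH
  have hft := finiteType_of_iso a
  haveI : IsFinite (spMap (SGA3b.powConv R A n)).left := (IsFinite.SpecMap_iff _).mpr (finite_powConv hft hA n hn)
  haveI : IsIso a.hom.left := ((Over.forget _).mapIso a).isIso_hom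
  haveI : IsIso a.inv.left := ((Over.forget _).mapIso a).isIso_inv
  have e : ((𝟙 H) ^ n) = a.inv ≫ spMap (SGA3b.powConv R A n) ≫ a.hom := by
    rw [spMap_powConv, npow_comp, Category.id_comp, comp_npow, a.inv_hom_id]
  rw [e, Over.comp_left, Over.comp_left]
  infer_instance

variable {S : Scheme.{u}} {E H K : Over S} [GrpObj E] [GrpObj H] [GrpObj K] {p : E ⟶ K} [IsMonHom p] {i : H ⟶ E}
  [IsMonHom i]

/-- The torsion of a commutative extension is finite if the power maps of the kernel and the quotient are. -/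
theorem isFinite_torsion [Flat p.left] [Surjective p.left] [QuasiCompact p.left] [IsSeparated K.hom]
    (hker : AlgGrp.IsKernel i p) (hcomm : ∀ (X : Over S) (a b : X ⟶ E), a * b = b * a) (n : ℕ)
    (hH : IsFinite (((𝟙 H) ^ n)).left) (hK : IsFinite (((𝟙 K) ^ n)).left) :
    IsFinite (pullback (((𝟙 E) ^ n)) η[E]).hom := by
  haveI := mono_of_isKernel hker
  let N := pullback (((𝟙 E) ^ n)) η[E]
  let x : N ⟶ E := pullback.fst _ _
  have hx : x ^ n = 1 := by
    have h : x ≫ ((𝟙 E) ^ n) = _ := pullback.condition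
    rw [comp_npow, Category.comp_id, toUnit_unique (pullback.snd (((𝟙 E) ^ n)) η[E]) (toUnit N), ← Hom.one_def] at h
    exact h
  -- the kernel is closed
  haveI : IsClosedImmersion (η[K] : 𝟙_ (Over S) ⟶ K).left := by
    haveI : IsClosedImmersion ((η[K] : 𝟙_ (Over S) ⟶ K).left ≫ K.hom) := by
      rw [Over.w (η[K] : 𝟙_ (Over S) ⟶ K)]
      exact inferInstanceAs (IsClosedImmersion (𝟙 S))
    exact IsClosedImmersion.of_comp _ K.hom
  haveI : IsClosedImmersion i.left :=
    MorphismProperty.of_isPullback (P := @IsClosedImmersion) (hker.map (Over.forget S)).flip ‹_›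
  -- the sum map of the torsion and the kernel is a base change of the power map of the kernel
  let g : H ⟶ E := ((𝟙 H) ^ n) ≫ i
  haveI : IsFinite g.left := by
    show IsFinite ((((𝟙 H) ^ n)).left ≫ i.left)
    infer_instance
  let P := pullback (((𝟙 E) ^ n)) g
  have hgpt : ∀ {X : Over S} (h : X ⟶ H), h ≫ g = (h ≫ i) ^ n := fun h => by
    show h ≫ ((𝟙 H) ^ n) ≫ i = _
    rw [npow_comp, Category.id_comp, comp_npow]
  let m : N ⊗ H ⟶ E := (fst N H ≫ x) * (snd N H ≫ i)
  have hmn : m ≫ ((𝟙 E) ^ n) = snd N H ≫ g := by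
    rw [comp_npow, Category.comp_id, hgpt, (show Commute (fst N H ≫ x) (snd N H ≫ i) from hcomm _ _ _).mul_pow,
      ← comp_npow, hx, MonObj.comp_one, _root_.one_mul]
  let y : P ⟶ E := pullback.fst _ _ * (pullback.snd _ _ ≫ i)⁻¹
  have hy : y ≫ ((𝟙 E) ^ n) = toUnit P ≫ η[E] := by
    have h : pullback.fst (((𝟙 E) ^ n)) g ≫ ((𝟙 E) ^ n) = _ := pullback.condition
    rw [comp_npow, Category.comp_id, hgpt] at h
    rw [comp_npow, Category.comp_id, ← Hom.one_def, (show Commute (pullback.fst (((𝟙 E) ^ n)) g) _ from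
      hcomm _ _ _).mul_pow, h, inv_pow, mul_inv_cancel]
  let e : N ⊗ H ≅ P :=
    { hom := pullback.lift m (snd N H) hmn
      inv := lift (pullback.lift y (toUnit P) hy) (pullback.snd _ _)
      hom_inv_id := by
        apply CartesianMonoidalCategory.hom_ext
        · rw [Category.assoc, lift_fst, Category.id_comp]
          apply pullback.hom_ext
          · rw [Category.assoc, pullback.lift_fst, MonObj.comp_mul, GrpObj.comp_inv, pullback.lift_fst,
              pullback.lift_snd_assoc]
            show (fst N H ≫ x) * (snd N H ≫ i) * (snd N H ≫ i)⁻¹ = _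
            rw [mul_inv_cancel_right]
          · exact toUnit_unique _ _
        · rw [Category.assoc, lift_snd, pullback.lift_snd, Category.id_comp]
      inv_hom_id := by
        apply pullback.hom_ext
        · rw [Category.assoc, pullback.lift_fst, MonObj.comp_mul, lift_fst_assoc, lift_snd_assoc,
            pullback.lift_fst, Category.id_comp]
          exact inv_mul_cancel_right _ _
        · rw [Category.assoc, pullback.lift_snd, lift_snd, Category.id_comp] }
  haveI : IsFinite m.left := by
    have hsq := (IsPullback.of_hasPullback (((𝟙 E) ^ n)) g).map (Over.forget S)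
    haveI : IsFinite (pullback.fst (((𝟙 E) ^ n)) g).left :=
      MorphismProperty.of_isPullback (P := @IsFinite) hsq.flip ‹IsFinite g.left›
    haveI : IsIso e.hom.left := ((Over.forget _).mapIso e).isIso_hom
    rw [show m = e.hom ≫ pullback.fst _ _ from (pullback.lift_fst m (snd N H) hmn).symm, Over.comp_left]
    infer_instance
  -- descent along `p`
  let q : N ⟶ K := x ≫ p
  have hsq : IsPullback m (fst N H) p q := by
    have hm : ∀ {Z : Over S} (l : Z ⟶ N ⊗ H), l ≫ m = (l ≫ fst N H ≫ x) * (l ≫ snd N H ≫ i) :=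
      fun l => MonObj.comp_mul l _ _
    have hc : ∀ s : PullbackCone p q, ((s.snd ≫ x)⁻¹ * s.fst) ≫ p = 1 := fun s => by
      rw [MonObj.mul_comp _ _ p, GrpObj.inv_comp, s.condition, Category.assoc, inv_mul_cancel]
    refine ⟨⟨?_⟩, ⟨PullbackCone.IsLimit.mk _
      (fun s => lift s.snd (hker.lift _ (toUnit _) ((hc s).trans Hom.one_def)))
      (fun s => ?_) (fun s => lift_fst _ _) (fun s l h₁ h₂ => ?_)⟩⟩
    · rw [MonObj.mul_comp _ _ p, comp_eq_one hker, _root_.mul_one, Category.assoc]
    · rw [hm, lift_fst_assoc, lift_snd_assoc, hker.lift_fst, mul_inv_cancel_left]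
    · refine CartesianMonoidalCategory.hom_ext _ _ (by rw [lift_fst]; exact h₂) ?_
      rw [lift_snd, ← cancel_mono i, hker.lift_fst, ← h₁, hm, reassoc_of% h₂, inv_mul_cancel_left, Category.assoc]
  haveI : IsFinite q.left := by
    haveI := EtFound.fpqc_isFinite.{u}
    exact MorphismProperty.of_isPullback_of_descendsAlong (P := @IsFinite) (hsq.map (Over.forget S))
      (show (@Surjective ⊓ @Flat ⊓ @QuasiCompact : MorphismProperty Scheme.{u}) p.left from ⟨⟨‹_›, ‹_›⟩, ‹_›⟩) ‹IsFinite m.left›
  -- the torsion of the quotient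
  let NK := pullback (((𝟙 K) ^ n)) η[K]
  have hsqK := (IsPullback.of_hasPullback (((𝟙 K) ^ n)) η[K]).map (Over.forget S)
  haveI : IsClosedImmersion (pullback.fst (((𝟙 K) ^ n)) η[K]).left :=
    MorphismProperty.of_isPullback (P := @IsClosedImmersion) hsqK.flip ‹_›
  haveI : IsFinite NK.hom := by
    haveI : IsFinite (pullback.snd (((𝟙 K) ^ n)) η[K]).left :=
      MorphismProperty.of_isPullback (P := @IsFinite) hsqK hK
    rw [← Over.w (pullback.snd (((𝟙 K) ^ n)) η[K])]
    show IsFinite (_ ≫ 𝟙 S)
    infer_instance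
  let l : N ⟶ NK := pullback.lift q (toUnit N) (by
    rw [comp_npow, Category.comp_id, ← Hom.one_def, ← npow_comp, hx]
    exact MonObj.one_comp p)
  haveI : IsFinite l.left := by
    haveI : IsFinite (l.left ≫ (pullback.fst (((𝟙 K) ^ n)) η[K]).left) := by
      rw [← Over.comp_left, pullback.lift_fst]; infer_instance
    exact IsFinite.of_comp _ (pullback.fst (((𝟙 K) ^ n)) η[K]).left
  show IsFinite N.hom
  rw [← Over.w l]
  infer_instance

end Groth.Agent.MultTypeExt
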