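import Groth.Prelude.Def_AlgGrp
import Groth.Prelude.Def_SGA3x
import Groth.Agent.EtFound.Descent
import Groth.Agent.MultTypeQI.Flat
import Groth.Agent.TransLib.MultEssFree
import Mathlib.AlgebraicGeometry.Morphisms.LocalFlatDescent

/-!
# Extensions by a group of multiplicative type are torsors, hence affine
-/

set_option backward.isDefEq.respectTransparency false
set_option backward.isDefEq.respectTransparency.types false

universe u

open CategoryTheory CategoryTheory.Limits MonoidalCategory CartesianMonoidalCategory MonObj GrpObj AlgebraicGeometry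
open scoped CategoryTheory.MonObj

namespace Groth.Agent.MultTypeExt

variable {S : Scheme.{u}} {E H K : Over S} [GrpObj E] [GrpObj H] [GrpObj K] {p : E ⟶ K} [IsMonHom p] {i : H ⟶ E}

theorem mono_of_isKernel (hker : AlgGrp.IsKernel i p) : Mono i :=
  ⟨fun a b h => hker.hom_ext h (toUnit_unique _ _)⟩

theorem comp_eq_one (hker : AlgGrp.IsKernel i p) {X : Over S} (h : X ⟶ H) : (h ≫ i) ≫ p = 1 := by
  rw [Category.assoc, hker.w, ← Category.assoc, toUnit_unique (h ≫ toUnit H) (toUnit X), ← Hom.one_def]

theorem exists_lift (hker : AlgGrp.IsKernel i p) {X : Over S} (a : X ⟶ E) (ha : a ≫ p = 1) :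
    ∃ h : X ⟶ H, h ≫ i = a :=
  ⟨hker.lift a (toUnit X) (ha.trans Hom.one_def), hker.lift_fst _ _ _⟩

/-- The kernel pair of a homomorphism is the action of the kernel by translations. -/
theorem isPullback_translate (hker : AlgGrp.IsKernel i p) :
    IsPullback (fst E H) (fst E H * (snd E H ≫ i)) p p := by
  haveI := mono_of_isKernel hker
  have hm : ∀ {Z : Over S} (l : Z ⟶ E ⊗ H), l ≫ (fst E H * (snd E H ≫ i)) = (l ≫ fst E H) * ((l ≫ snd E H) ≫ i) :=
    fun l => by rw [MonObj.comp_mul, Category.assoc]
  refine ⟨⟨by rw [MonObj.mul_comp, comp_eq_one hker, _root_.mul_one]⟩, ⟨PullbackCone.IsLimit.mk _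
    (fun s => lift s.fst (hker.lift (s.fst⁻¹ * s.snd) (toUnit _) (by
      rw [MonObj.mul_comp, GrpObj.inv_comp, s.condition, inv_mul_cancel, Hom.one_def])))
    (fun s => lift_fst _ _) (fun s => ?_) (fun s m h₁ h₂ => ?_)⟩⟩
  · rw [hm, lift_fst, lift_snd, hker.lift_fst, mul_inv_cancel_left]
  · refine CartesianMonoidalCategory.hom_ext _ _ (by rw [lift_fst]; exact h₁) ?_
    rw [lift_snd, ← cancel_mono i, hker.lift_fst, ← h₂, hm, h₁, inv_mul_cancel_left]

/-- An extension of a group scheme by a group of multiplicative type is affine, flat and of finite presentation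
over it. -/
theorem isAffineHom_and_lfp [Surjective p.left] [Flat p.left] [QuasiCompact p.left] (hker : AlgGrp.IsKernel i p)
    (hH : SGA3x.IsMultTypeFT H) : IsAffineHom p.left ∧ LocallyOfFinitePresentation p.left := by
  haveI := EtFound.fpqc_isAffineHom.{u}
  haveI : IsAffineHom H.hom := (TransLib.multTypeFT_essFree hH).1
  haveI := GrpSchLib.MultTypeLfp.lfp hH
  have hsq := (isPullback_translate hker).map (Over.forget S)
  have hp : (@Surjective ⊓ @Flat ⊓ @QuasiCompact : MorphismProperty Scheme.{u}) p.left := ⟨⟨‹_›, ‹_›⟩, ‹_›⟩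
  haveI : IsAffineHom (fst E H).left := MorphismProperty.pullback_fst (P := @IsAffineHom) _ _ ‹_›
  haveI : LocallyOfFinitePresentation (fst E H).left :=
    MorphismProperty.pullback_fst (P := @LocallyOfFinitePresentation) _ _ ‹_›
  exact ⟨MorphismProperty.of_isPullback_of_descendsAlong (P := @IsAffineHom) hsq hp ‹_›,
    MorphismProperty.of_isPullback_of_descendsAlong (P := @LocallyOfFinitePresentation) hsq hp ‹_›⟩

/-- An extension of groups of multiplicative type is affine, flat and of finite presentation over the base. -/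
theorem affine_flat_lfp [Surjective p.left] [Flat p.left] [QuasiCompact p.left] (hker : AlgGrp.IsKernel i p)
    (hH : SGA3x.IsMultTypeFT H) (hK : SGA3x.IsMultTypeFT K) :
    IsAffineHom E.hom ∧ Flat E.hom ∧ LocallyOfFinitePresentation E.hom := by
  obtain ⟨_, _⟩ := isAffineHom_and_lfp hker hH
  haveI : IsAffineHom K.hom := (TransLib.multTypeFT_essFree hK).1
  haveI := MultTypeQI.flat hK
  haveI := GrpSchLib.MultTypeLfp.lfp hK
  rw [← Over.w p]
  exact ⟨inferInstance, inferInstance, inferInstance⟩

end Groth.Agent.MultTypeExt
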