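import Groth.Agent.TorusQI.HomExtend
import Groth.Agent.TorusQI.Image
import Groth.Agent.MultTypeExt.Basic

/-!
# Invariant families of homomorphisms between groups of multiplicative type
-/

set_option backward.isDefEq.respectTransparency.types false

universe u

open CategoryTheory CategoryTheory.Limits MonoidalCategory CartesianMonoidalCategory MonObj GrpObj AlgebraicGeometry
open scoped CategoryTheory.MonObj

namespace Groth.Agent.MultTypeExt

variable {S : Scheme.{u}}

/-- The points of the fibre at `s`. -/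
def InFibre (Z : Over S) (s : S) : Prop :=
  ∃ l : Z.left ⟶ Spec (S.residueField s), l ≫ S.fromSpecResidueField s = Z.hom

theorem InFibre.of_hom {Z Z' : Over S} {s : S} (h : InFibre Z s) (f : Z' ⟶ Z) : InFibre Z' s := by
  obtain ⟨l, hl⟩ := h
  exact ⟨f.left ≫ l, by rw [Category.assoc, hl, Over.w f]⟩

/-- A family of homomorphisms of groups of multiplicative type parametrised by `E`, invariant along `p : E ⟶ U`,
trivial at the unit and trivial in the fibres with disconnected quotient, is trivial. -/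
theorem family_eq_one {E U M N : Over S} [GrpObj E] [GrpObj M] [GrpObj N] (p : E ⟶ U) [Flat p.left]
    [Surjective p.left] [QuasiCompact p.left] (hM : SGA3x.IsMultTypeFT M) (hN : SGA3x.IsMultTypeFT N)
    (χ : M ⊗ E ⟶ N) (hχ : AutFam.IsHomFamily M N χ) (hone : (M ◁ η[E]) ≫ χ = 1)
    (hinv : ∀ (R : Over S) (r₁ r₂ : R ⟶ E), r₁ ≫ p = r₂ ≫ p → (M ◁ r₁) ≫ χ = (M ◁ r₂) ≫ χ)
    (hfib : ∀ s : S, _root_.IsConnected (U.hom.base ⁻¹' {s}) ∨
      ∀ (Z : Over S) (z : Z ⟶ E), InFibre Z s → (M ◁ z) ≫ χ = 1) : χ = 1 := by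
  obtain ⟨A, υ, hA, _, _, -⟩ := Groth.Agent.TorusQI.exists_homScheme hM hN
  obtain ⟨a, ha, -⟩ := hA.2 E χ hχ
  have h1 : AutFam.IsHomFamily M N (1 : M ⊗ 𝟙_ (Over S) ⟶ N) := fun X g₁ g₂ t => by
    rw [MonObj.comp_one, MonObj.comp_one, MonObj.comp_one, _root_.mul_one]
  obtain ⟨c₀, hc₀, -⟩ := hA.2 _ _ h1
  have hext : ∀ {X : Over S} (u v : X ⟶ A), (M ◁ u) ≫ υ = (M ◁ v) ≫ υ → u = v := fun {X} u v h =>
    (hA.2 X _ (Groth.Agent.HomRepLib.isHomFamily_comp hA.1 v)).unique h rfl
  have hconst : ∀ (X : Over S), (M ◁ (toUnit X ≫ c₀)) ≫ υ = 1 := fun X => by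
    rw [MonoidalCategory.whiskerLeft_comp, Category.assoc, hc₀, MonObj.comp_one]
  have htriv : ∀ {X : Over S} (z : X ⟶ E), (M ◁ z) ≫ χ = 1 → z ≫ a = toUnit X ≫ c₀ := fun {X} z h =>
    hext _ _ (by rw [hconst, MonoidalCategory.whiskerLeft_comp, Category.assoc, ha, h])
  have hca : η[E] ≫ a = c₀ := (htriv _ hone).trans (by rw [toUnit_unique (toUnit (𝟙_ (Over S))) (𝟙 _), Category.id_comp])
  let σ : S ⟶ A.left := c₀.left
  have hσ : σ ≫ A.hom = 𝟙 S := Over.w c₀
  haveI : Etale (σ ≫ A.hom) := by rw [hσ]; infer_instance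
  haveI : Etale σ := Etale.of_comp σ A.hom
  haveI : IsClosedImmersion (σ ≫ A.hom) := by rw [hσ]; infer_instance
  haveI : IsClosedImmersion σ := IsClosedImmersion.of_comp σ A.hom
  haveI : IsOpenImmersion σ := IsOpenImmersion.of_flat_of_mono σ
  let W : Set E.left := a.left ⁻¹' Set.range σ
  have hWo : IsOpen W := σ.isOpenEmbedding.isOpen_range.preimage a.left.continuous
  have hWc : IsClosed W := σ.isClosedEmbedding.isClosed_range.preimage a.left.continuous
  have hsat : ∀ e e' : E.left, p.left e = p.left e' → e ∈ W → e' ∈ W := by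
    intro e e' hee he
    obtain ⟨z, hz, hz'⟩ := Scheme.Pullback.exists_preimage_pullback e e' hee
    let R : Over S := Over.mk (Limits.pullback.fst p.left p.left ≫ E.hom)
    let r₁ : R ⟶ E := Over.homMk (Limits.pullback.fst p.left p.left) rfl
    let r₂ : R ⟶ E := Over.homMk (Limits.pullback.snd p.left p.left) (by
      show Limits.pullback.snd p.left p.left ≫ E.hom = Limits.pullback.fst p.left p.left ≫ E.hom
      rw [← Over.w p, ← Category.assoc, ← Limits.pullback.condition, Category.assoc])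
    have hr : r₁ ≫ p = r₂ ≫ p := Over.OverMorphism.ext Limits.pullback.condition
    have : r₁ ≫ a = r₂ ≫ a := hext _ _ (by
      rw [MonoidalCategory.whiskerLeft_comp, Category.assoc, ha, MonoidalCategory.whiskerLeft_comp, Category.assoc,
        ha, hinv R r₁ r₂ hr])
    have h' := congrArg (fun k => k.left z) this
    simp only [Over.comp_left, r₁, r₂, Over.homMk_left, Scheme.Hom.comp_apply, hz, hz'] at h'
    show a.left e' ∈ Set.range σ
    rw [← h']
    exact he
  have hq : Topology.IsQuotientMap p.left := Flat.isQuotientMap_of_surjective _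
  have hpre : p.left ⁻¹' (p.left '' W) = W :=
    Set.Subset.antisymm (fun x ⟨w, hw, hwx⟩ => hsat w x hwx hw) (Set.subset_preimage_image _ _)
  have hT : ∀ x : E.left, x ∈ W := by
    intro x
    let t : S := U.hom (p.left x)
    rcases hfib t with hU | hZ
    · have hop : IsOpen (p.left '' W) := by rw [← hq.isOpen_preimage, hpre]; exact hWo
      have hcl : IsClosed (p.left '' W) := by rw [← hq.isClosed_preimage, hpre]; exact hWc
      have hmem : (η[E] : 𝟙_ (Over S) ⟶ E).left t ∈ W := ⟨t, by
        show σ t = a.left ((η[E] : 𝟙_ (Over S) ⟶ E).left t)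
        exact (congrArg (fun k => k.left t) hca).symm⟩
      have hne : ((U.hom.base ⁻¹' {t}) ∩ p.left '' W).Nonempty := ⟨p.left ((η[E] : 𝟙_ (Over S) ⟶ E).left t), by
        show U.hom (p.left ((η[E] : 𝟙_ (Over S) ⟶ E).left t)) = t
        rw [← Scheme.Hom.comp_apply, Over.w p, ← Scheme.Hom.comp_apply, Over.w (η[E] : 𝟙_ (Over S) ⟶ E)]
        rfl, _, hmem, rfl⟩
      have := hU.isPreconnected.subset_isClopen ⟨hcl, hop⟩ hne (show p.left x ∈ U.hom.base ⁻¹' {t} from rfl)
      rw [← hpre]
      exact this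
    · have ht : E.hom x = t := by
        show E.hom x = U.hom (p.left x)
        rw [← Scheme.Hom.comp_apply, Over.w p]
      let Z : Over S := Over.mk (E.left.fromSpecResidueField x ≫ E.hom)
      let z : Z ⟶ E := Over.homMk (E.left.fromSpecResidueField x) rfl
      have hin : InFibre Z (E.hom x) :=
        ⟨Spec.map (E.hom.residueFieldMap x), Scheme.Hom.SpecMap_residueFieldMap_fromSpecResidueField E.hom x⟩
      rw [ht] at hin
      have h := htriv z (hZ Z z hin)
      obtain ⟨w, hw⟩ : x ∈ Set.range (E.left.fromSpecResidueField x) := by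
        rw [Scheme.range_fromSpecResidueField]; rfl
      refine ⟨Z.hom w, ?_⟩
      have h' := congrArg (fun k => k.left w) h
      simp only [Over.comp_left, z, Over.homMk_left, Scheme.Hom.comp_apply] at h'
      rw [hw] at h'
      exact h'.symm
  let a' : E.left ⟶ S := IsOpenImmersion.lift σ a.left (by rintro _ ⟨x, rfl⟩; exact hT x)
  have ha' : a' ≫ σ = a.left := IsOpenImmersion.lift_fac _ _ _
  have haa : a = toUnit E ≫ c₀ := Over.OverMorphism.ext (by
    have h2 : a' = E.hom := by
      have := congrArg (· ≫ A.hom) ha'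
      simp only [Category.assoc, hσ, Category.comp_id, Over.w] at this
      exact this
    rw [← ha', h2]
    rfl)
  rw [← ha, haa, hconst]

end Groth.Agent.MultTypeExt
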